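import Cfsg.Agent.BpSpor.MBigCo
import Cfsg.Agent.H109.NrOrb_m3
import Cfsg.Agent.Prune
set_option linter.all false
prune_inst 0x7f00000000000000000000000000000000000000000000000000000000000000000000000000000000000000000000000000000000000000000000000000000000000000000000000000000000000000003fffffffffffffffffffffffffffbeffbdffffffff
open scoped Cfsg.Agent.FastGrp

/-!
# The centralizer in `Co0` of an element of order 13 (helper109, task 678)

* `three_free` : an element of order 3 commuting with an element of order 13 has no fixed vectors;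
* `card_cent_thirteen` : `|C_{Co0}(a)|` divides `5616 = 2 ^ 4 * 3 ^ 3 * 13`;
* `card_cent_co1` : `2 * |C_{Co1}(s)|` divides 5616.
-/

set_option autoImplicit false

namespace Cfsg.Agent.H109.Nr.Co

open Cfsg Polynomial Module Cfsg.Agent.SporadicStructure.Co0Base
open Cfsg.Agent.SigZeroCo2.Lin Cfsg.Agent.CpAutBig.TwoPrimes Cfsg.Agent.CpAutBig
open Cfsg.Agent.BpSpor.MBigCo

/-- a vector killed by a cyclotomic polynomial of degree `dim V` is cyclic -/
theorem exists_aeval {V : Type*} [AddCommGroup V] [Module ℚ V] [FiniteDimensional ℚ V] (f : Module.End ℚ V) {n : ℕ}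
    (hn : 0 < n) {u : V} (hu : u ≠ 0) (h : aeval f (cyclotomic n ℚ) u = 0) (hd : finrank ℚ V ≤ n.totient) (v : V) :
    ∃ p : ℚ[X], aeval f p u = v := by
  let L : degreeLT ℚ n.totient →ₗ[ℚ] V :=
    { toFun := fun p => aeval f (p : ℚ[X]) u
      map_add' := fun p q => by
        change aeval f ((p : ℚ[X]) + (q : ℚ[X])) u = _
        rw [map_add]; rfl
      map_smul' := fun c p => by
        change aeval f (c • (p : ℚ[X])) u = _
        rw [map_smul]; rfl }
  have hL : Function.Injective L := by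
    rw [injective_iff_map_eq_zero]
    rintro ⟨p, hp⟩ hz
    by_contra hne
    have hp0 : p ≠ 0 := fun h0 => hne (Subtype.ext h0)
    have hz' : aeval f p u = 0 := hz
    have hirr := cyclotomic.irreducible_rat hn
    have hcop : IsCoprime p (cyclotomic n ℚ) := by
      refine ((Irreducible.coprime_iff_not_dvd hirr).2 fun hd => ?_).symm
      have h1 := Polynomial.natDegree_le_of_dvd hd hp0
      rw [natDegree_cyclotomic] at h1
      rw [mem_degreeLT] at hp
      have h2 := (Polynomial.natDegree_lt_iff_degree_lt hp0).2 hp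
      omega
    obtain ⟨a, b, hab⟩ := hcop
    have h3 : aeval f (a * p + b * cyclotomic n ℚ) u = u := by
      rw [hab, map_one]; rfl
    rw [map_add, map_mul, map_mul] at h3
    have h4 : (aeval f a * aeval f p) u + (aeval f b * aeval f (cyclotomic n ℚ)) u = u := h3
    rw [Module.End.mul_apply, Module.End.mul_apply, hz', h, map_zero, map_zero, add_zero] at h4
    exact hu h4.symm
  have h1 : finrank ℚ (degreeLT ℚ n.totient) = n.totient := by
    rw [(degreeLTEquiv ℚ n.totient).finrank_eq, finrank_fin_fun]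
  have hfd : FiniteDimensional ℚ (degreeLT ℚ n.totient) :=
    (degreeLTEquiv ℚ n.totient).symm.finiteDimensional
  have h2 : finrank ℚ (degreeLT ℚ n.totient) = finrank ℚ V := by
    apply le_antisymm (LinearMap.finrank_le_finrank_of_injective hL)
    rw [h1]
    exact hd
  obtain ⟨p, hp⟩ := (LinearMap.injective_iff_surjective_of_finrank_eq_finrank h2).1 hL v
  exact ⟨p, hp⟩

/-- **Commuting elements of order `p`, `q` with `(p - 1) (q - 1) = 24`.** -/
theorem free_of_free {p q : ℕ} (hp : p.Prime) (hq : q.Prime) (hpq : p ≠ q) (hbig : 24 ≤ (q - 1) * (p - 1))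
    {x y : Co0} (hx : orderOf x = p) (hfree : ∀ v : leechLattice, x • v = v → v = 0) (hyo : orderOf y = q)
    (hyc : y * x = x * y) : ∀ v : leechLattice, y • v = v → v = 0 := by
  intro v hv
  by_contra hv0
  have hcomm : Commute (rep x) (rep y) := by
    change rep x * rep y = rep y * rep x
    rw [← map_mul, ← map_mul, hyc]
  have hX : (rep x) ^ p = 1 := by rw [← map_pow, ← hx, pow_orderOf_eq_one, map_one]
  have hY : (rep y) ^ q = 1 := by rw [← map_pow, ← hyo, pow_orderOf_eq_one, map_one]
  have hYv : rep y (toV v) = toV v := by rw [rep_toV, hv]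
  have hv' : toV v ≠ 0 := by
    intro h
    apply hv0
    apply toV_injective
    rw [h, toV_zero]
  obtain ⟨X', hX'⟩ : ∃ X', X' = rep x := ⟨_, rfl⟩
  obtain ⟨Y', hY'⟩ : ∃ Y', Y' = rep y := ⟨_, rfl⟩
  rw [← hX'] at hX hcomm
  rw [← hY'] at hY hcomm hYv
  have hXf : ∀ v, X' v = v → v = 0 := fun v hv => free_rep hfree (by rw [← hX']; exact hv)
  -- a vector moved by `y`
  obtain ⟨w, hw⟩ : ∃ w, Y' w ≠ w := by
    by_contra hcon
    push Not at hcon
    have h1 : rep y = 1 := by
      rw [← hY']
      exact LinearMap.ext hcon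
    have h2 : y = 1 := rep_injective (by rw [h1, map_one])
    rw [h2, orderOf_one] at hyo
    exact hq.one_lt.ne hyo
  obtain ⟨g, hg⟩ : ∃ g, g = X' * Y' := ⟨_, rfl⟩
  have hgn : ∀ n, g ^ n = X' ^ n * Y' ^ n := fun n => by rw [hg, hcomm.mul_pow]
  have hgq : g ^ q = X' ^ q := by rw [hgn, hY, mul_one]
  have hgp : g ^ p = Y' ^ p := by rw [hgn, hX, one_mul]
  have hgpq : g ^ (q * p) = 1 := by rw [pow_mul, hgq, ← pow_mul, mul_comm, pow_mul, hX, one_pow]
  have hgY : Commute g Y' := by
    rw [hg]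
    exact hcomm.mul_left (Commute.refl _)
  have hcop : Nat.Coprime q p := (Nat.coprime_primes hq hp).2 (Ne.symm hpq)
  have hone : ∀ (T : Module.End ℚ Sp) (a b : ℕ) (_ : a.Coprime b) (_ : T ^ b = 1) (v : Sp), (T ^ a) v = v → T v = v := by
    intro T a b hab hT v hv
    have hpow : ∀ k, (T ^ (a * k)) v = v := by
      intro k
      induction k with
      | zero => rw [mul_zero, pow_zero]; rfl
      | succ k ih => rw [mul_add, mul_one, pow_add, Module.End.mul_apply, hv, ih]
    by_cases hb : b = 1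
    · rw [hb, pow_one] at hT
      rw [hT]; rfl
    by_cases hb0 : b = 0
    · rw [hb0, Nat.coprime_zero_right] at hab
      rw [hab, pow_one] at hv
      exact hv
    obtain ⟨m, hm⟩ := Nat.exists_mul_mod_eq_one_of_coprime hab (by omega)
    have h1 : T ^ (a * m) = T := by
      conv_rhs => rw [← pow_one T]
      rw [← Nat.div_add_mod (a * m) b, hm.2, pow_add, pow_mul, hT, one_pow, one_mul]
    rw [← h1]
    exact hpow m
  have hcP : ∀ P : ℚ[X], Commute (aeval g P) Y' := by
    intro P
    have := Polynomial.aeval_eq_sum_range (p := P) g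
    rw [this]
    apply Commute.sum_left
    intro i _
    exact (hgY.pow_left i).smul_left _
  have hcP' : ∀ P : ℚ[X], aeval g P (Y' w - w) = Y' (aeval g P w) - aeval g P w := by
    intro P
    have h4 : aeval g P (Y' w) = Y' (aeval g P w) := by
      rw [← Module.End.mul_apply, ← Module.End.mul_apply, hcP]
    rw [← h4]
    exact map_sub _ _ _
  -- the vector killed by the cyclotomic polynomial
  let u := Y' w - w
  have hu : u ≠ 0 := sub_ne_zero.2 hw
  have hpol : (X ^ q - 1) * ((X ^ p - 1) * cyclotomic (q * p) ℚ) = (X - 1) * (X ^ (q * p) - 1) := by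
    rw [mul_comm (X - 1), ← cyclotomic_mul hp hq hpq]
    ring
  have key := congrArg (fun P : ℚ[X] => aeval g P u) hpol
  simp only [map_mul, map_sub, map_pow, aeval_X, map_one] at key
  rw [hgpq, sub_self, mul_zero, hgq, hgp] at key
  obtain ⟨u', hu'⟩ : ∃ u', u' = aeval g (cyclotomic (q * p) ℚ) u := ⟨_, rfl⟩
  have key2 : (X' ^ q - 1) ((Y' ^ p - 1) u') = 0 := by
    rw [hu']
    exact key
  have h1 : (Y' ^ p - 1) u' = 0 := by
    obtain ⟨t, ht⟩ : ∃ t, t = (Y' ^ p - 1) u' := ⟨_, rfl⟩
    rw [← ht] at key2 ⊢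
    have h2 : (X' ^ q) t - t = 0 := key2
    exact hXf t (hone X' q p hcop hX t (sub_eq_zero.1 h2))
  have h2 : Y' u' = u' := by
    have h3 : (Y' ^ p) u' - u' = 0 := h1
    exact hone Y' p q hcop.symm hY u' (sub_eq_zero.1 h3)
  have h3 : u' = Y' (aeval g (cyclotomic (q * p) ℚ) w) - aeval g (cyclotomic (q * p) ℚ) w := by
    rw [hu']
    exact hcP' _
  have h4 := eq_zero_of_range Y' hq.pos hY h2 h3
  have h6 : finrank ℚ Sp = 24 := by
    rw [Module.finrank_fintype_fun_eq_card]
    rfl
  obtain ⟨P, hP⟩ := exists_aeval g (Nat.mul_pos hq.pos hp.pos) hu (hu'.symm.trans h4) (by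
    rw [h6, Nat.totient_mul hcop, Nat.totient_prime hq, Nat.totient_prime hp]
    exact hbig) (toV v)
  exact hv' (eq_zero_of_range Y' hq.pos hY hYv (by rw [← hP]; exact hcP' P))

theorem three_free {a y : Co0} (ha : orderOf a = 13) (hy : orderOf y = 3) (hc : y * a = a * y) :
    ∀ v : leechLattice, y • v = v → v = 0 :=
  free_of_free (p := 13) (q := 3) (by norm_num) (by norm_num) (by norm_num) (by norm_num) ha (free_thirteen ha) hy hc

open Subgroup

open Cfsg.Agent.CoOneType.ClosingFacts (mk mk_mul mk_eq_one neg_eq)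

/-- the action on the nonzero vectors is semiregular -/
theorem stab_trivial {a : Co0} (ha : orderOf a = 13) {v : leechLattice} (hv : v ≠ 0) {c : Co0} (hc : c * a = a * c)
    (hcv : c • v = v) : c = 1 := by
  have hfin := CoZero.finite_co0
  let F : Subgroup Co0 := centralizer ({a} : Set Co0) ⊓ MulAction.stabilizer Co0 v
  have hF : F = ⊥ := by
    by_contra hne
    have h1 : Nat.card ↥F ≠ 1 := fun h => hne (Subgroup.card_eq_one.1 h)
    obtain ⟨q, hq, hqd⟩ := Nat.exists_prime_and_dvd h1
    have : Fact q.Prime := ⟨hq⟩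
    obtain ⟨⟨y, hy⟩, hyo⟩ := exists_prime_orderOf_dvd_card' q hqd
    rw [Subgroup.orderOf_mk] at hyo
    have hya : y * a = a * y := mem_centralizer_singleton_iff.1 hy.1
    have hyv : y • v = v := hy.2
    rcases (show q = 2 ∨ q = 3 ∨ q = 13 ∨ (5 ≤ q ∧ q ≠ 13) by
      have h2 := hq.two_le
      have h4 : q ≠ 4 := by rintro rfl; norm_num at hq
      omega) with rfl | rfl | rfl | ⟨h5, h13⟩
    · have h2 : y * y = 1 := by rw [← pow_two, ← hyo, pow_orderOf_eq_one]
      have h3 := eq_neg ha h2 hya.symm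
      rcases (mk_eq_one _).1 h3 with h4 | h4
      · rw [h4, orderOf_one] at hyo
        norm_num at hyo
      · rw [← neg_eq] at h4
        apply hv
        have h5 : y • v = -v := by
          rw [h4]
          exact Cfsg.Agent.SporadicA.Co0Basic.negCo0_apply v
        rw [hyv] at h5
        exact self_eq_neg.1 h5
    · exact hv (three_free ha hyo hya v hyv)
    · exact hv (free_thirteen hyo v hyv)
    · refine not_dvd_thirteen ha hq h5 h13 (hqd.trans (card_dvd_of_le inf_le_left))
  have h1 : c ∈ F := ⟨mem_centralizer_singleton_iff.2 hc, hcv⟩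
  rw [hF] at h1
  exact Subgroup.mem_bot.1 h1

theorem card_dvd {a : Co0} (ha : orderOf a = 13) : Nat.card ↥(centralizer ({a} : Set Co0)) ∣ 196560 := by
  have hfin := CoZero.finite_co0
  obtain ⟨v, hv⟩ : ∃ v : leechLattice, sqNorm (v : GolayPt → ℤ) = 32 := by
    have h1 := CoZero.ncard_eq (n := 32) (Or.inl rfl)
    have h2 : {x : GolayPt → ℤ | x ∈ leechLattice ∧ sqNorm x = 32}.Nonempty := by
      apply Set.nonempty_of_ncard_ne_zero
      rw [h1]
      unfold CoZero.cnt
      norm_num
    obtain ⟨x, hx, hn⟩ := h2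
    exact ⟨⟨x, hx⟩, hn⟩
  have hcard : Nat.card ↥(MulAction.orbit Co0 v) = 196560 := by
    have h1 := CoZero.card_stab_mul (Or.inl rfl) v hv
    have h2 := (MulAction.stabilizer Co0 v).card_mul_index
    rw [MulAction.index_stabilizer, S0397.result] at h2
    have h3 : CoZero.cnt 32 = 196560 := by
      unfold CoZero.cnt
      norm_num
    rw [h3] at h1
    have h4 : Nat.card ↥(MulAction.orbit Co0 v) = (MulAction.orbit Co0 v).ncard := rfl
    rw [h4]
    have h5 : 0 < Nat.card ↥(MulAction.stabilizer Co0 v) := Nat.card_pos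
    apply Nat.eq_of_mul_eq_mul_left h5
    rw [h1, h2]
  have hvo : ∀ w : ↥(MulAction.orbit Co0 v), (w : leechLattice) ≠ 0 := by
    rintro ⟨w, g, rfl⟩ h
    have h1 : g • v = 0 := h
    have h2 := co0_sqNorm g v
    rw [h1, hv] at h2
    norm_num [sqNorm] at h2
  have : Finite ↥(MulAction.orbit Co0 v) := Nat.finite_of_card_ne_zero (by rw [hcard]; norm_num)
  rw [← hcard]
  refine dvd_card (A := ↥(centralizer ({a} : Set Co0))) fun w => ?_
  have h1 : MulAction.stabilizer ↥(centralizer ({a} : Set Co0)) w = ⊥ := by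
    rw [eq_bot_iff]
    rintro ⟨c, hc⟩ hcw
    rw [MulAction.mem_stabilizer_iff] at hcw
    have h2 : c • (w : leechLattice) = w := congrArg Subtype.val hcw
    rw [Subgroup.mem_bot]
    exact Subtype.ext (stab_trivial ha (hvo w) (mem_centralizer_singleton_iff.1 hc) h2)
  rw [h1, Subgroup.index_bot]

theorem card_cent_thirteen {a : Co0} (ha : orderOf a = 13) : Nat.card ↥(centralizer ({a} : Set Co0)) ∣ 5616 := by
  have h1 := card_dvd ha
  have h5 := not_dvd_thirteen ha (q := 5) (by norm_num) (by norm_num) (by norm_num)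
  have h7 := not_dvd_thirteen ha (q := 7) (by norm_num) (by norm_num) (by norm_num)
  have c5 : Nat.Coprime 5 (Nat.card ↥(centralizer ({a} : Set Co0))) :=
    (Nat.Prime.coprime_iff_not_dvd (by norm_num)).2 h5
  have c7 : Nat.Coprime 7 (Nat.card ↥(centralizer ({a} : Set Co0))) :=
    (Nat.Prime.coprime_iff_not_dvd (by norm_num)).2 h7
  have h2 : Nat.card ↥(centralizer ({a} : Set Co0)) ∣ 5 * (7 * 5616) := h1.trans (by norm_num)
  exact c7.symm.dvd_of_dvd_mul_left (c5.symm.dvd_of_dvd_mul_left h2)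

/-- **the centralizer in `Co1`** -/
theorem card_cent_co1 {s : Cfsg.Spor.Co1} (hs : orderOf s = 13) :
    2 * Nat.card ↥(centralizer ({s} : Set Cfsg.Spor.Co1)) ∣ 5616 := by
  have hfin := CoZero.finite_co0
  obtain ⟨a, rfl, ha13, ha⟩ := exists_lift_thirteen hs
  let q : ↥(centralizer ({a} : Set Co0)) →* Cfsg.Spor.Co1 :=
    (QuotientGroup.mk' (Subgroup.center Co0)).comp (centralizer ({a} : Set Co0)).subtype
  have hq : ∀ b, q b = _root_.Cfsg.Agent.CoOneType.ClosingFacts.mk (b : Co0) := fun b => rfl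
  have h1 : q.range = centralizer ({_root_.Cfsg.Agent.CoOneType.ClosingFacts.mk a} : Set Cfsg.Spor.Co1) := by
    apply le_antisymm
    · rintro _ ⟨b, rfl⟩
      rw [mem_centralizer_singleton_iff]
      have h2 := mem_centralizer_singleton_iff.1 b.2
      show _root_.Cfsg.Agent.CoOneType.ClosingFacts.mk ((b : Co0) * a) = _root_.Cfsg.Agent.CoOneType.ClosingFacts.mk (a * b)
      rw [h2]
    · intro s hs
      obtain ⟨b, rfl⟩ := Cfsg.Agent.CoOneType.ClosingFacts.exists_mk s
      have h2 : _root_.Cfsg.Agent.CoOneType.ClosingFacts.mk a * _root_.Cfsg.Agent.CoOneType.ClosingFacts.mk b = _root_.Cfsg.Agent.CoOneType.ClosingFacts.mk b * _root_.Cfsg.Agent.CoOneType.ClosingFacts.mk a := (mem_centralizer_singleton_iff.1 hs).symm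
      have h3 := LThreeBX.NoSeven.comm_of_mk (n := 13) (by decide) ha13 h2
      exact ⟨⟨b, mem_centralizer_singleton_iff.2 h3.symm⟩, rfl⟩
  have h2 : 2 ∣ Nat.card q.ker := by
    have hm : (Cfsg.Agent.SporadicA.Co0Mono.signCo0 Cfsg.Agent.SporadicA.Co1Simple.allOne : Co0) ∈
        centralizer ({a} : Set Co0) :=
      mem_centralizer_singleton_iff.2 (LThreeBX.NoSeven.n_comm a)
    have hk : (⟨_, hm⟩ : ↥(centralizer ({a} : Set Co0))) ∈ q.ker := by
      rw [MonoidHom.mem_ker, hq, mk_eq_one]
      exact Or.inr rfl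
    have h3 : orderOf (⟨⟨_, hm⟩, hk⟩ : ↥q.ker) = 2 := by
      have : Fact (Nat.Prime 2) := ⟨Nat.prime_two⟩
      refine orderOf_eq_prime ?_ ?_
      · apply Subtype.ext
        apply Subtype.ext
        show (Cfsg.Agent.SporadicA.Co0Mono.signCo0 Cfsg.Agent.SporadicA.Co1Simple.allOne : Co0) ^ 2 = 1
        rw [pow_two]
        exact Cfsg.Agent.LThreeBX.NoSeven.nn
      · intro h
        exact LThreeBX.NoSeven.n_ne (congrArg (fun x : ↥q.ker => ((x : ↥(centralizer ({a} : Set Co0))) : Co0)) h)
    rw [← h3]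
    exact _root_.orderOf_dvd_natCard _
  have h3 : Nat.card ↥(centralizer ({a} : Set Co0)) = Nat.card q.ker * Nat.card q.range := by
    rw [← Subgroup.card_mul_index q.ker, Subgroup.index_ker]
  rw [h1] at h3
  refine Dvd.dvd.trans ?_ (card_cent_thirteen ha)
  rw [h3]
  exact Nat.mul_dvd_mul_right h2 _

end Cfsg.Agent.H109.Nr.Co
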