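import Cfsg.Agent.H478.RadTools_m3
import Cfsg.Agent.BpLin.PSL
import Cfsg.Agent.H999.RowPSL
import Cfsg.Agent.SignalizersComponents.SLQuasisimple
import Cfsg.Agent.SignalizersComponents.QuasisimpleQuotient
import Cfsg.Agent.StdL2.Cover
import Cfsg.Agent.S0242
import Cfsg.Agent.FastGrp
import Cfsg.Agent.Prune
set_option linter.all false

section
prune_inst 0x7ffcf8fbeff9addfffff7e77ffdcdffc39d05fffffdffd4bffe069ff0fdf030a0de5fb8d8de050ff1ff6629410b87853fbfffeffea6ffc7ffffdfff45ffbee1fe5f7bd08519688340fbc0fff83f07f8e7f3fffffffffffffffffffffffffffbeffffffffffff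

-- part: H109/EndPslA
section
prune_inst 0x4000010000000018800220001c42ca0000000008000088200b0206804c0000420021b8a004001000044400380040000000100000000000000000011801a08000400682480104260007800000000000000000000000000000000000000000000000000
set_option linter.all false
open scoped Cfsg.Agent.FastGrp

/-!
# Field automorphisms of `PSL_2(F)` and involutions (helper109, for S3829)

* `no_abelian` : no nontrivial abelian subgroup of `PSL_2(F)` is normalised by the field automorphism `σ` (of prime order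
  `p ≥ 5`) and by the involution `t_b` (image of `[[b, 1], [-(1 + b²), -b]]`), `σ b ≠ b`;
* `not_ps` : hence `⟨x, x^t⟩` is not solvable for `x` outside `PGL_2(F)` of prime order `p ≥ 5`.
-/

set_option autoImplicit false
set_option linter.unusedSectionVars false

namespace Cfsg.Agent.H109.EndPsl

open Subgroup Cfsg Matrix
open scoped commutatorElement
open Cfsg.Agent.H459.Iface Cfsg.Agent.H459.Rad
open Cfsg.Agent.ClassicalGeometry.AutPSL.Root Cfsg.Agent.ClassicalGeometry.AutPSL.Auto
  Cfsg.Agent.ClassicalGeometry.AutPSL.Main Cfsg.Agent.BpLin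

section Mat

variable {F : Type*} [Field F]

/-- not scalar -/
def NS (g : Matrix (Fin 2) (Fin 2) F) : Prop := g 0 1 ≠ 0 ∨ g 1 0 ≠ 0 ∨ g 0 0 - g 1 1 ≠ 0

theorem comm_iff {g n : Matrix (Fin 2) (Fin 2) F} : g * n = n * g ↔
    (g 0 1 * n 1 0 = g 1 0 * n 0 1 ∧ g 0 1 * (n 0 0 - n 1 1) = (g 0 0 - g 1 1) * n 0 1 ∧
      g 1 0 * (n 0 0 - n 1 1) = (g 0 0 - g 1 1) * n 1 0) := by
  constructor
  · intro h
    have h00 := congrFun (congrFun h 0) 0
    have h01 := congrFun (congrFun h 0) 1
    have h10 := congrFun (congrFun h 1) 0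
    simp only [Matrix.mul_apply, Fin.sum_univ_two] at h00 h01 h10
    refine ⟨?_, ?_, ?_⟩
    · linear_combination h00
    · linear_combination -h01
    · linear_combination h10
  · rintro ⟨h1, h2, h3⟩
    ext i j
    fin_cases i <;> fin_cases j <;> simp only [Matrix.mul_apply, Fin.sum_univ_two, Fin.zero_eta, Fin.mk_one]
    · linear_combination h1
    · linear_combination -h2
    · linear_combination h3
    · linear_combination -h1

theorem comm_of_comm {g n m : Matrix (Fin 2) (Fin 2) F} (hg : NS g) (h1 : g * n = n * g) (h2 : g * m = m * g) :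
    n * m = m * n := by
  rw [comm_iff] at h1 h2 ⊢
  obtain ⟨a1, a2, a3⟩ := h1
  obtain ⟨b1, b2, b3⟩ := h2
  generalize n 0 0 - n 1 1 = w at *
  generalize m 0 0 - m 1 1 = w' at *
  generalize n 0 1 = u at *
  generalize m 0 1 = u' at *
  generalize n 1 0 = v at *
  generalize m 1 0 = v' at *
  unfold NS at hg
  generalize g 0 0 - g 1 1 = c at *
  generalize g 0 1 = a at *
  generalize g 1 0 = b at *
  rcases hg with h | h | h
  · have e1 : u * v' = v * u' := by
      apply mul_left_cancel₀ h
      linear_combination u * b1 - u' * a1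
    have e2 : u * w' = w * u' := by
      apply mul_left_cancel₀ h
      linear_combination u * b2 - u' * a2
    refine ⟨e1, e2, ?_⟩
    apply mul_left_cancel₀ (mul_ne_zero h h)
    linear_combination a * w' * a1 + b * u * b2 - a * v' * a2 - c * u * b1
  · have e1 : u * v' = v * u' := by
      apply mul_left_cancel₀ h
      linear_combination v * b1 - v' * a1
    have e3 : v * w' = w * v' := by
      apply mul_left_cancel₀ h
      linear_combination v * b3 - v' * a3
    refine ⟨e1, ?_, e3⟩
    apply mul_left_cancel₀ (mul_ne_zero h h)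
    linear_combination -b * w' * a1 + a * v * b3 + c * v * b1 - b * u' * a3
  · have e2 : u * w' = w * u' := by
      apply mul_left_cancel₀ h
      linear_combination -w' * a2 + w * b2
    have e3 : v * w' = w * v' := by
      apply mul_left_cancel₀ h
      linear_combination -w' * a3 + w * b3
    refine ⟨?_, e2, e3⟩
    apply mul_left_cancel₀ (mul_ne_zero h h)
    linear_combination -c * v' * a2 - a * w * b3 + b * w * b2 + c * u' * a3

/-- `(T n)² = (n T)²` : either `tr (T n) = 0` or `T`, `n` commute -/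
theorem key {T n : Matrix (Fin 2) (Fin 2) F} (h : (T * n) * (T * n) = (n * T) * (n * T)) :
    (T * n).trace = 0 ∨ T * n = n * T := by
  by_cases ht : (T * n).trace = 0
  · exact Or.inl ht
  right
  have h1 : ∀ X : Matrix (Fin 2) (Fin 2) F, X * X = X.trace • X - X.det • 1 := by
    intro X
    ext i j
    (revert i j; simp only [Matrix.mul_apply, Fin.sum_univ_two, Matrix.trace_fin_two, Matrix.det_fin_two, _root_.Fin.forall_fin_succ, Fin.isValue, _root_.Matrix.sub_apply, _root_.Matrix.smul_apply, _root_.smul_eq_mul, _root_.Fin.succ_zero_eq_one, _root_.IsEmpty.forall_iff, _root_.and_true, _root_.Matrix.one_apply_eq, _root_.mul_one, Nat.reduceAdd, _root_.ne_eq, _root_.zero_ne_one, _root_.not_false_eq_true, _root_.Matrix.one_apply_ne, _root_.MulZeroClass.mul_zero, _root_.sub_zero, _root_.Fin.succ_ne_zero]) <;> (repeat' with_reducible apply And.intro) <;> ring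
  have h2 : (n * T).trace = (T * n).trace := Matrix.trace_mul_comm n T
  have h3 : (n * T).det = (T * n).det := by rw [Matrix.det_mul, Matrix.det_mul, mul_comm]
  rw [h1 (T * n), h1 (n * T), h2, h3] at h
  have h4 : (T * n).trace • (T * n) = (T * n).trace • (n * T) := sub_left_injective h
  exact smul_right_injective _ ht h4

/-- the matrices of the involutions -/
def tm (b : F) : Matrix (Fin 2) (Fin 2) F := !![b, 1; -(1 + b ^ 2), -b]

theorem det_tm (b : F) : (tm b).det = 1 := by
  rw [tm, Matrix.det_fin_two_of]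
  ring

theorem tm_mul_self (b : F) : tm b * tm b = -1 := by
  ext i j
  (revert i j; simp only [tm, Matrix.mul_apply, Fin.sum_univ_two, _root_.Fin.forall_fin_succ, _root_.neg_add_rev, _root_.Matrix.of_apply, _root_.Matrix.cons_val', _root_.Matrix.cons_val_fin_one, Fin.isValue, _root_.Matrix.cons_val_zero, _root_.Matrix.cons_val_one, _root_.Matrix.neg_apply, _root_.Matrix.cons_val_succ, _root_.mul_one, _root_.mul_neg, _root_.IsEmpty.forall_iff, _root_.and_true, _root_.one_mul, _root_.Matrix.one_apply_eq, _root_.add_neg_cancel, Nat.reduceAdd, _root_.Fin.succ_zero_eq_one, _root_.ne_eq, _root_.zero_ne_one, _root_.not_false_eq_true, _root_.Matrix.one_apply_ne, _root_.neg_zero, _root_.neg_mul, _root_.Fin.succ_ne_zero, _root_.neg_neg]) <;> (repeat' with_reducible apply And.intro) <;> ring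

theorem trace_tm_mul (b : F) (n : Matrix (Fin 2) (Fin 2) F) :
    (tm b * n).trace = b * (n 0 0 - n 1 1) + n 1 0 - (1 + b ^ 2) * n 0 1 := by
  rw [Matrix.trace_fin_two, Matrix.mul_apply, Matrix.mul_apply, Fin.sum_univ_two, Fin.sum_univ_two]
  simp only [tm, Matrix.of_apply, Matrix.cons_val', Matrix.cons_val_zero, Matrix.cons_val_one,
    Matrix.cons_val_fin_one]
  ring

/-- three distinct parameters -/
theorem not_ns {a b c : F} (hab : a ≠ b) (hac : a ≠ c) (hbc : b ≠ c) {n : Matrix (Fin 2) (Fin 2) F}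
    (h1 : (tm a * n).trace = 0) (h2 : (tm b * n).trace = 0) (h3 : (tm c * n).trace = 0) : ¬ NS n := by
  rw [trace_tm_mul] at h1 h2 h3
  have e1 : (n 0 0 - n 1 1) - (a + b) * n 0 1 = 0 := by
    apply mul_left_cancel₀ (sub_ne_zero.2 hab)
    linear_combination h1 - h2
  have e2 : (n 0 0 - n 1 1) - (a + c) * n 0 1 = 0 := by
    apply mul_left_cancel₀ (sub_ne_zero.2 hac)
    linear_combination h1 - h3
  have e3 : n 0 1 = 0 := by
    apply mul_left_cancel₀ (sub_ne_zero.2 hbc)
    linear_combination e2 - e1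
  have e4 : n 0 0 - n 1 1 = 0 := by rw [e3] at e1; linear_combination e1
  have e5 : n 1 0 = 0 := by rw [e3, e4] at h1; linear_combination h1
  rintro (h | h | h)
  · exact h e3
  · exact h e5
  · exact h e4

theorem tm_comm {a b : F} (h : tm a * tm b = tm b * tm a) : a = b := by
  rw [comm_iff] at h
  obtain ⟨h1, h2, -⟩ := h
  simp only [tm, Matrix.of_apply, Matrix.cons_val', Matrix.cons_val_zero, Matrix.cons_val_one,
    Matrix.cons_val_fin_one] at h1 h2
  have e : (a - b) * (a - b) = 0 := by
    linear_combination -h1 - a * h2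
  have := mul_self_eq_zero.1 e
  exact sub_eq_zero.1 this

end Mat

section Grp

variable {F : Type*} [Field F]

local notation "S2" => Matrix.SpecialLinearGroup (Fin 2) F
local notation "P2" => Matrix.ProjectiveSpecialLinearGroup (Fin 2) F

/-- the involutions -/
def Tm (b : F) : S2 := ⟨tm b, det_tm b⟩

theorem coe_Tm (b : F) : ((Tm b : S2) : Matrix (Fin 2) (Fin 2) F) = tm b := rfl

theorem coe_Tm_inv (b : F) : (((Tm b)⁻¹ : S2) : Matrix (Fin 2) (Fin 2) F) = -tm b := by
  have h1 : ((Tm b : S2) : Matrix (Fin 2) (Fin 2) F) * (((Tm b)⁻¹ : S2) : Matrix (Fin 2) (Fin 2) F) = 1 := by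
    rw [← Matrix.SpecialLinearGroup.coe_mul, mul_inv_cancel, Matrix.SpecialLinearGroup.coe_one]
  have h2 : (-tm b) * (tm b * (((Tm b)⁻¹ : S2) : Matrix (Fin 2) (Fin 2) F)) = -tm b := by
    rw [← coe_Tm, h1, mul_one]
  rw [← h2, ← mul_assoc, neg_mul, tm_mul_self, neg_neg, one_mul]

theorem fld_Tm (σ : F ≃+* F) (b : F) : fld σ (Tm b : S2) = Tm (σ b) := by
  apply Subtype.ext
  ext i j
  rw [coe_fld_apply]
  (revert i j; simp only [coe_Tm, tm, _root_.Fin.forall_fin_succ, _root_.neg_add_rev, _root_.Matrix.of_apply, _root_.Matrix.cons_val', _root_.Matrix.cons_val_fin_one, Fin.isValue, _root_.Matrix.cons_val_zero, _root_.Matrix.cons_val_succ, _root_.forall_const, _root_.map_one, _root_.and_self, _root_.map_add, _root_.map_neg, _root_.map_pow, _root_.RingEquiv.map_neg_one, _root_.implies_true])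

theorem pr_Tm_inj {a b : F} (h : pr (Tm a : S2) = pr (Tm b)) : a = b := by
  obtain ⟨c, hc⟩ := exists_smul_of_pr_eq h
  have h1 := congrFun (congrFun hc 0) 1
  have h2 := congrFun (congrFun hc 0) 0
  simp only [coe_Tm, tm, Matrix.smul_apply, Matrix.of_apply, Matrix.cons_val', Matrix.cons_val_zero,
    Matrix.cons_val_one, Matrix.cons_val_fin_one, smul_eq_mul, mul_one] at h1 h2
  rw [← h1, one_mul] at h2
  exact h2.symm

theorem pr_Tm_sq (b : F) : pr (Tm b : S2) * pr (Tm b) = 1 := by
  rw [← map_mul, ← map_one (pr : S2 →* _)]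
  symm
  apply pr_eq_of_smul (c := -1)
  rw [Matrix.SpecialLinearGroup.coe_mul, coe_Tm, tm_mul_self, Matrix.SpecialLinearGroup.coe_one, neg_smul, one_smul]

/-- the nonscalar elements -/
theorem ns_of_ne {n : S2} (h : pr n ≠ 1) : NS (n : Matrix (Fin 2) (Fin 2) F) := by
  by_contra hcon
  unfold NS at hcon
  push Not at hcon
  obtain ⟨h1, h2, h3⟩ := hcon
  apply h
  rw [← map_one (pr : S2 →* _)]
  symm
  apply pr_eq_of_smul (c := (n : Matrix (Fin 2) (Fin 2) F) 0 0)
  ext i j
  fin_cases i <;> fin_cases j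
  · simp
  · simpa only [_root_.Fin.zero_eta, _root_.Fin.isValue, _root_.Fin.mk_one, _root_.Matrix.SpecialLinearGroup.coe_one, _root_.Matrix.smul_apply, _root_.Nat.reduceAdd, _root_.ne_eq, _root_.zero_ne_one, _root_.not_false_eq_true, _root_.Matrix.one_apply_ne, _root_.smul_eq_mul, _root_.MulZeroClass.mul_zero] using h1
  · simpa using h2
  · have : (n : Matrix (Fin 2) (Fin 2) F) 1 1 = (n : Matrix (Fin 2) (Fin 2) F) 0 0 := (sub_eq_zero.1 h3).symm
    simpa using this

theorem sl_comm_iff {n m : S2} : n * m = m * n ↔ (n : Matrix (Fin 2) (Fin 2) F) * m = m * n := by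
  rw [← Matrix.SpecialLinearGroup.coe_mul, ← Matrix.SpecialLinearGroup.coe_mul]
  exact ⟨fun h => by rw [h], fun h => Subtype.ext h⟩

theorem sl_comm_of_comm {g n m : S2} (hg : pr g ≠ 1) (h1 : g * n = n * g) (h2 : g * m = m * g) : n * m = m * n := by
  rw [sl_comm_iff] at *
  exact comm_of_comm (ns_of_ne hg) h1 h2

/-- elements commuting modulo scalars -/
theorem comm_or {n m : S2} (h : pr n * pr m = pr m * pr n) :
    n * m = m * n ∨ (n : Matrix (Fin 2) (Fin 2) F) * m = -((m : Matrix (Fin 2) (Fin 2) F) * n) := by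
  rw [← map_mul, ← map_mul] at h
  obtain ⟨c, hc⟩ := exists_smul_of_pr_eq h
  have h1 := congrArg Matrix.det hc
  rw [Matrix.det_smul, (n * m).2, (m * n).2, mul_one, Fintype.card_fin] at h1
  have h2 : (c - 1) * (c + 1) = 0 := by linear_combination -h1
  rcases mul_eq_zero.1 h2 with h3 | h3
  · left
    have : c = 1 := sub_eq_zero.1 h3
    rw [this, one_smul] at hc
    exact (Subtype.ext hc).symm
  · right
    have : c = -1 := eq_neg_of_add_eq_zero_left h3
    rw [this, neg_smul, one_smul] at hc
    rw [← Matrix.SpecialLinearGroup.coe_mul, ← Matrix.SpecialLinearGroup.coe_mul, hc, neg_neg]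

/-- `n m = - m n` -/
def Anti (n m : S2) : Prop := (n : Matrix (Fin 2) (Fin 2) F) * m = -((m : Matrix (Fin 2) (Fin 2) F) * n)

theorem Anti.inv_left {n m : S2} (h : Anti n m) : Anti n⁻¹ m := by
  have e1 : ((n⁻¹ : S2) : Matrix (Fin 2) (Fin 2) F) * n = 1 := by
    rw [← Matrix.SpecialLinearGroup.coe_mul, inv_mul_cancel, Matrix.SpecialLinearGroup.coe_one]
  have e2 : (n : Matrix (Fin 2) (Fin 2) F) * (n⁻¹ : S2) = 1 := by
    rw [← Matrix.SpecialLinearGroup.coe_mul, mul_inv_cancel, Matrix.SpecialLinearGroup.coe_one]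
  unfold Anti at *
  calc ((n⁻¹ : S2) : Matrix (Fin 2) (Fin 2) F) * m
      = (n⁻¹ : S2) * (m * n) * (n⁻¹ : S2) := by rw [mul_assoc, mul_assoc, e2, mul_one]
    _ = (n⁻¹ : S2) * (-(n * m)) * (n⁻¹ : S2) := by rw [h, neg_neg]
    _ = -(((n⁻¹ : S2) : Matrix (Fin 2) (Fin 2) F) * n * m * (n⁻¹ : S2)) := by
        rw [mul_neg, neg_mul, mul_assoc ((n⁻¹ : S2) : Matrix (Fin 2) (Fin 2) F) n m]
    _ = -((m : Matrix (Fin 2) (Fin 2) F) * (n⁻¹ : S2)) := by rw [e1, one_mul]

theorem Anti.symm {n m : S2} (h : Anti n m) : Anti m n := by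
  unfold Anti at *
  rw [h, neg_neg]

theorem Anti.mul {g h m : S2} (h1 : Anti g m) (h2 : Anti h m) : (g * h) * m = m * (g * h) := by
  rw [sl_comm_iff, Matrix.SpecialLinearGroup.coe_mul]
  unfold Anti at *
  rw [mul_assoc, h2, mul_neg, ← mul_assoc, h1, neg_mul, neg_neg, mul_assoc]

theorem Anti.mul_comm {g h m : S2} (h1 : Anti g m) (h2 : h * m = m * h) : Anti (g * h) m := by
  rw [sl_comm_iff] at h2
  unfold Anti at *
  rw [Matrix.SpecialLinearGroup.coe_mul, mul_assoc, h2, ← mul_assoc, h1, neg_mul, mul_assoc]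

theorem Anti.comm_mul {g h m : S2} (h1 : g * m = m * g) (h2 : Anti h m) : Anti (g * h) m := by
  rw [sl_comm_iff] at h1
  unfold Anti at *
  rw [Matrix.SpecialLinearGroup.coe_mul, mul_assoc, h2, mul_neg, ← mul_assoc, h1, mul_assoc]

/-- the centraliser of a four-group -/
theorem claim {n m g : S2} (hnm : n * m ≠ m * n) (hc : pr n * pr m = pr m * pr n)
    (h1 : pr g * pr n = pr n * pr g) (h2 : pr g * pr m = pr m * pr g) :
    pr g = 1 ∨ pr g = pr n ∨ pr g = pr m ∨ pr g = pr n * pr m := by
  have ha : Anti n m := (comm_or hc).resolve_left hnm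
  have key : ∀ h : S2, h * n = n * h → h * m = m * h → pr h = 1 := by
    intro h h3 h4
    by_contra h5
    exact hnm (sl_comm_of_comm h5 h3 h4)
  rcases comm_or h1 with h3 | h3 <;> rcases comm_or h2 with h4 | h4
  · exact Or.inl (key g h3 h4)
  · right; left
    have h5 := key (g * n⁻¹) (by
      rw [mul_assoc, inv_mul_cancel, ← mul_assoc, ← h3, mul_assoc, mul_inv_cancel])
      (Anti.mul h4 ha.inv_left)
    rw [map_mul, map_inv, mul_inv_eq_one] at h5
    exact h5
  · right; right; left
    have h5 := key (g * m⁻¹) (Anti.mul h3 ha.symm.inv_left) (by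
      rw [mul_assoc, inv_mul_cancel, ← mul_assoc, ← h4, mul_assoc, mul_inv_cancel])
    rw [map_mul, map_inv, mul_inv_eq_one] at h5
    exact h5
  · right; right; right
    have h5 := key (g * (n * m)⁻¹) (Anti.mul h3 (Anti.comm_mul rfl ha.symm).inv_left)
      (Anti.mul h4 (Anti.mul_comm ha rfl).inv_left)
    rw [map_mul, map_inv, mul_inv_eq_one, map_mul] at h5
    exact h5

/-- **No abelian subgroup is normalised by `σ` and `t_b`.** -/
theorem no_abelian [Finite F] {σ : F ≃+* F} {p : ℕ} (hpp : p.Prime) (hp : 5 ≤ p) (hσ : σ ^ p = 1) {b : F}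
    (hb : σ b ≠ b) {A : Subgroup P2} (hA : ∀ x ∈ A, ∀ y ∈ A, x * y = y * x) (hA1 : A ≠ ⊥)
    (hAσ : ∀ a ∈ A, lift (fld σ) a ∈ A) (hAt : ∀ a ∈ A, pr (Tm b) * a * (pr (Tm b))⁻¹ ∈ A) : False := by
  have hσi : ∀ (i : ℕ) (n : S2), pr n ∈ A → pr (fld (σ ^ i) n) ∈ A := by
    intro i
    induction i with
    | zero => intro n hn; rwa [pow_zero, map_one]
    | succ i ih =>
      intro n hn
      rw [pow_succ', map_mul]
      have := hAσ _ (ih n hn)
      rwa [lift_pr] at this
  have hpi : ∀ i : ℕ, σ ^ i * σ ^ ((p - 1) * i) = 1 := by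
    intro i
    rw [← pow_add, show i + (p - 1) * i = p * i by
      obtain ⟨k, rfl⟩ : ∃ k, p = k + 1 := ⟨p - 1, by omega⟩
      rw [Nat.add_sub_cancel]; ring, pow_mul, hσ, one_pow]
  have hti : ∀ (i : ℕ) (n : S2), pr n ∈ A → pr (Tm ((σ ^ i) b) * n * (Tm ((σ ^ i) b))⁻¹) ∈ A := by
    intro i n hn
    have h1 := hσi ((p - 1) * i) n hn
    have h2 := hAt _ h1
    rw [← map_inv, ← map_mul, ← map_mul] at h2
    have h3 := hσi i _ h2
    have h4 : fld (σ ^ i) (fld (σ ^ ((p - 1) * i)) n) = n := by
      rw [← MulAut.mul_apply, ← map_mul, hpi, map_one, MulAut.one_apply]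
    have h5 : fld (σ ^ i) (Tm b * fld (σ ^ ((p - 1) * i)) n * (Tm b)⁻¹) =
        Tm ((σ ^ i) b) * n * (Tm ((σ ^ i) b))⁻¹ := by
      rw [map_mul (fld (σ ^ i)), map_mul (fld (σ ^ i)), map_inv (fld (σ ^ i)), fld_Tm, h4]
    rwa [h5] at h3
  -- the three parameters are distinct
  have hodd : ∃ k, p = 2 * k + 1 := by
    have := hpp.odd_of_ne_two (by omega)
    exact this
  have hb1 : ∀ i : ℕ, (σ ^ i) (σ b) ≠ (σ ^ i) b := fun i h => hb ((σ ^ i).injective h)
  have hb2 : (σ ^ 2) b ≠ b := by
    intro h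
    obtain ⟨k, hk⟩ := hodd
    have h1 : ∀ j : ℕ, (σ ^ (2 * j)) b = b := by
      intro j
      induction j with
      | zero => rfl
      | succ j ih => rw [mul_add, pow_add, RingAut.mul_apply, mul_one, h, ih]
    apply hb
    have h2 : (σ ^ p) b = σ b := by rw [hk, pow_succ', RingAut.mul_apply, h1]
    rw [← h2, hσ]; rfl
  by_cases hcase : ∀ n m : S2, pr n ∈ A → pr m ∈ A → n * m = m * n
  · -- the preimage is abelian
    obtain ⟨a, haA, ha1⟩ : ∃ a ∈ A, a ≠ 1 := by
      by_contra hcon
      push Not at hcon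
      exact hA1 ((eq_bot_iff).2 fun x hx => mem_bot.2 (hcon x hx))
    obtain ⟨n, rfl⟩ := pr_surjective a
    have hns := ns_of_ne ha1
    have hk : ∀ i : ℕ, (tm ((σ ^ i) b) * (n : Matrix (Fin 2) (Fin 2) F)).trace = 0 ∨
        tm ((σ ^ i) b) * (n : Matrix (Fin 2) (Fin 2) F) = n * tm ((σ ^ i) b) := by
      intro i
      apply key
      have h1 := hcase _ _ (hti i n haA) haA
      rw [sl_comm_iff, Matrix.SpecialLinearGroup.coe_mul, Matrix.SpecialLinearGroup.coe_mul, coe_Tm, coe_Tm_inv] at h1
      simp only [mul_neg, neg_mul, neg_inj] at h1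
      simp only [mul_assoc] at h1 ⊢
      exact h1
    have hcomm : ∀ i : ℕ, ¬ (tm ((σ ^ i) b) * (n : Matrix (Fin 2) (Fin 2) F) = n * tm ((σ ^ i) b)) := by
      intro i h1
      have h1' : Tm ((σ ^ i) b) * n = n * Tm ((σ ^ i) b) := sl_comm_iff.2 h1
      have h2 := congrArg (fld σ) h1'
      rw [map_mul, map_mul, fld_Tm] at h2
      have h3 : pr (fld σ n) ∈ A := by simpa using hσi 1 n haA
      have h4 : pr (fld σ n) ≠ 1 := by
        rw [← lift_pr]
        exact fun h => ha1 ((map_eq_one_iff _ (lift (fld σ)).injective).1 h)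
      have h5 := hcase _ _ h3 haA
      have h6 := sl_comm_of_comm h4 h2.symm h5
      have h7 := sl_comm_of_comm ha1 h1'.symm h6.symm
      rw [sl_comm_iff, coe_Tm, coe_Tm] at h7
      have h8 := tm_comm h7
      apply hb1 i
      rw [← RingAut.mul_apply, ← pow_succ, pow_succ', RingAut.mul_apply, ← h8]
    have h0 := (hk 0).resolve_right (hcomm 0)
    have h1 := (hk 1).resolve_right (hcomm 1)
    have h2 := (hk 2).resolve_right (hcomm 2)
    refine not_ns ?_ ?_ ?_ h0 h1 h2 hns
    · rw [pow_zero, pow_one]; exact fun h => hb h.symm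
    · rw [pow_zero]; exact fun h => hb2 h.symm
    · intro h
      apply hb1 1
      rw [pow_one, ← RingAut.mul_apply, ← pow_two, ← h, pow_one]
  · push Not at hcase
    obtain ⟨n, m, hn, hm, hnm⟩ := hcase
    have hc := hA _ hn _ hm
    have hcl : ∀ g : P2, g * pr n = pr n * g → g * pr m = pr m * g →
        g = 1 ∨ g = pr n ∨ g = pr m ∨ g = pr n * pr m := by
      intro g h1 h2
      obtain ⟨g, rfl⟩ := pr_surjective g
      exact claim hnm hc h1 h2
    have hcard : Nat.card A ≤ 4 := by
      have h1 : (A : Set P2) ⊆ {1, pr n, pr m, pr n * pr m} := by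
        intro g hg
        rcases hcl g (hA g hg _ hn) (hA g hg _ hm) with h | h | h | h <;> simp only [h, _root_.QuotientGroup.mk'_apply, _root_.Set.mem_insert_iff, _root_.Set.mem_singleton_iff, _root_.true_or, _root_.QuotientGroup.eq_one_iff, _root_.left_eq_mul, _root_.or_true, _root_.right_eq_mul, _root_.mul_eq_left, _root_.mul_eq_right]
      have h2 : (A : Set P2).ncard ≤ ({1, pr n, pr m, pr n * pr m} : Set P2).ncard :=
        Set.ncard_le_ncard h1 (Set.toFinite _)
      have h3 : ({1, pr n, pr m, pr n * pr m} : Set P2).ncard ≤ 4 :=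
        (Set.ncard_insert_le _ _).trans (Nat.succ_le_succ ((Set.ncard_insert_le _ _).trans
          (Nat.succ_le_succ ((Set.ncard_insert_le _ _).trans (Nat.succ_le_succ (by rw [Set.ncard_singleton]))))))
      exact h2.trans h3
    have hfp : ∀ e : P2, (lift (fld σ))^[p] e = e := by
      intro e
      have h1 : ∀ (i : ℕ) (e : P2), (lift (fld σ))^[i] e = ((lift (fld σ)) ^ i) e := by
        intro i
        induction i with
        | zero => intro e; rfl
        | succ i ih =>
          intro e
          rw [Function.iterate_succ_apply', ih, pow_succ', MulAut.mul_apply]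
      rw [h1, ← map_pow, ← map_pow, hσ, map_one, map_one, MulAut.one_apply]
    have hfix : ∀ e ∈ A, lift (fld σ) e = e := by
      intro e he
      by_contra hne
      let g : A → A := fun x => ⟨lift (fld σ) x, hAσ x x.2⟩
      have hg : ∀ (i : ℕ) (x : A), ((g^[i] x : A) : P2) = (lift (fld σ))^[i] (x : P2) := by
        intro i
        induction i with
        | zero => intro x; rfl
        | succ i ih =>
          intro x
          rw [Function.iterate_succ_apply', Function.iterate_succ_apply', ← ih]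
      have hfact : Fact p.Prime := ⟨hpp⟩
      have hmp : Function.minimalPeriod g ⟨e, he⟩ = p := by
        refine Function.minimalPeriod_eq_prime (Subtype.ext ?_) ?_
        · rw [hg]; exact hfp e
        · intro h
          exact hne (congrArg Subtype.val h)
      have hinj : Function.Injective (fun i : Fin p => g^[(i : ℕ)] ⟨e, he⟩) := by
        intro i j hij
        apply Fin.ext
        refine Function.iterate_injOn_Iio_minimalPeriod (f := g) (x := ⟨e, he⟩) ?_ ?_ hij
        · rw [hmp]; exact i.2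
        · rw [hmp]; exact j.2
      have h1 := Nat.card_le_card_of_injective _ hinj
      rw [Nat.card_fin] at h1
      omega
    -- `t⁻¹ σ(t) ∈ A`
    obtain ⟨e0, he0⟩ : ∃ e0 : P2, e0 = (pr (Tm b))⁻¹ * pr (Tm (σ b)) := ⟨_, rfl⟩
    have hce : ∀ e ∈ A, e0 * e = e * e0 := by
      intro e he
      have h1 := hfix _ (hAt e he)
      rw [map_mul, map_mul, map_inv, hfix e he, lift_pr, fld_Tm] at h1
      rw [he0]
      have h2 : pr (Tm (σ b)) * e = pr (Tm b) * e * (pr (Tm b))⁻¹ * pr (Tm (σ b)) := by
        rw [← h1, inv_mul_cancel_right]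
      rw [mul_assoc, h2]
      group
    have he0A : e0 ∈ A := by
      rcases hcl e0 (hce _ hn) (hce _ hm) with h | h | h | h <;> rw [h]
      · exact one_mem _
      · exact hn
      · exact hm
      · exact mul_mem hn hm
    have h1 : ∀ i : ℕ, (lift (fld σ))^[i] (pr (Tm b)) = pr (Tm b) * e0 ^ i := by
      intro i
      induction i with
      | zero => rw [Function.iterate_zero, id, pow_zero, mul_one]
      | succ i ih =>
        rw [Function.iterate_succ_apply', ih, map_mul, map_pow, hfix e0 he0A, lift_pr, fld_Tm, pow_succ',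
          ← mul_assoc, he0, mul_inv_cancel_left]
    have h2 := h1 p
    rw [hfp] at h2
    have h3 : e0 ^ p = 1 := by
      have h4 : pr (Tm b) * e0 ^ p = pr (Tm b) * 1 := by rw [mul_one]; exact h2.symm
      exact mul_left_cancel h4
    have h4 : e0 ^ Nat.card A = 1 := by
      have := pow_card_eq_one' (x := (⟨e0, he0A⟩ : A))
      exact congrArg Subtype.val this
    have h5 : e0 = 1 := by
      have h6 : orderOf e0 ∣ Nat.gcd p (Nat.card A) :=
        Nat.dvd_gcd (orderOf_dvd_of_pow_eq_one h3) (orderOf_dvd_of_pow_eq_one h4)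
      have h7 : Nat.gcd p (Nat.card A) = 1 := by
        apply (Nat.Prime.coprime_iff_not_dvd hpp).2
        intro h8
        have := Nat.le_of_dvd Nat.card_pos h8
        omega
      rw [h7, Nat.dvd_one, orderOf_eq_one_iff] at h6
      exact h6
    apply hb
    apply pr_Tm_inj
    rw [h5] at he0
    exact (inv_mul_eq_one.1 he0.symm).symm

end Grp

section Solv

variable {K : Type*} [Group K]

/-- an abelian characteristic subgroup -/
theorem exists_abelian_char [Finite K] (N : Subgroup K) (hN : Group.IsSolvable N) (hN1 : N ≠ ⊥) :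
    ∃ A : Subgroup K, A ≤ N ∧ A ≠ ⊥ ∧ (∀ x ∈ A, ∀ y ∈ A, x * y = y * x) ∧
      ∀ φ : K →* K, (∀ k ∈ N, φ k ∈ N) → ∀ a ∈ A, φ a ∈ A := by
  induction hn : Nat.card N using Nat.strong_induction_on generalizing N with
  | _ n ih =>
    subst hn
    by_cases hc : ⁅N, N⁆ = ⊥
    · refine ⟨N, le_rfl, hN1, ?_, fun φ h => h⟩
      intro x hx y hy
      have h1 : ⁅x, y⁆ ∈ ⁅N, N⁆ := commutator_mem_commutator hx hy
      rw [hc, mem_bot, commutatorElement_eq_one_iff_mul_comm] at h1
      exact h1
    · have hle : ⁅N, N⁆ ≤ N := commutator_le_self N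
      have isSolvable_of_le : ∀ {A B : Subgroup K}, A ≤ B → Group.IsSolvable B → Group.IsSolvable A :=
        fun h1 h2 => Group.isSolvable_of_isSolvable_injective (f := inclusion h1) (inclusion_injective h1)
      have hlt : ⁅N, N⁆ < N := by
        refine lt_of_le_of_ne hle fun h => ?_
        have hnt : Nontrivial N := (Subgroup.nontrivial_iff_ne_bot N).2 hN1
        have h1 : commutator N < ⊤ := by
          have := hN
          exact Group.IsSolvable.commutator_lt_top_of_nontrivial N
        apply h1.ne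
        rw [eq_top_iff]
        intro z _
        have h2 : (z : K) ∈ (commutator N).map N.subtype := by
          rw [map_subtype_commutator, h]
          exact z.2
        obtain ⟨w, hw, hwz⟩ := h2
        rwa [← Subtype.ext hwz]
      have hs : Group.IsSolvable ↥⁅N, N⁆ := isSolvable_of_le hle hN
      have hcard : Nat.card ↥⁅N, N⁆ < Nat.card N := by
        refine lt_of_le_of_ne (card_le_of_le hle) fun h => hlt.ne ?_
        exact eq_of_le_of_card_ge hle h.ge
      obtain ⟨A, hA, hA1, hA2, hA3⟩ := ih _ hcard _ hs hc rfl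
      refine ⟨A, hA.trans hle, hA1, hA2, fun φ hφ => hA3 φ ?_⟩
      have h1 : ⁅N, N⁆.map φ ≤ ⁅N, N⁆ := by
        rw [map_commutator]
        have h2 : N.map φ ≤ N := by
          rintro _ ⟨k, hk, rfl⟩
          exact hφ k hk
        exact commutator_mono h2 h2
      intro k hk
      exact h1 (mem_map_of_mem φ hk)

/-- from two conjugates of `x` -/
theorem exists_abelian [Finite K] {x : MulAut K} (h : PS 2 x) {t : K} (ht : t * t = 1) (hxt : x t ≠ t) :
    ∃ A : Subgroup K, A ≠ ⊥ ∧ (∀ y ∈ A, ∀ z ∈ A, y * z = z * y) ∧ (∀ a ∈ A, x a ∈ A) ∧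
      ∀ a ∈ A, t * a * t⁻¹ ∈ A := by
  set H : Subgroup (MulAut K) := _root_.Subgroup.closure (Set.range fun i : Fin 2 =>
    MulAut.conj ((![1, t] : Fin 2 → K) i) * x * (MulAut.conj ((![1, t] : Fin 2 → K) i))⁻¹) with hH
  have hsol : Group.IsSolvable H := h ![1, t]
  set τ : MulAut K := MulAut.conj t with hτ
  have hττ : τ * τ = 1 := by rw [hτ, ← map_mul, ht, map_one]
  have hτi : τ⁻¹ = τ := inv_eq_of_mul_eq_one_left hττ
  have hx : x ∈ H := by
    refine subset_closure ⟨0, ?_⟩
    simp
  have hx' : τ * x * τ⁻¹ ∈ H := by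
    refine subset_closure ⟨1, ?_⟩
    simp only [hτ, _root_.Fin.isValue, _root_.Matrix.cons_val_one, _root_.Matrix.cons_val_fin_one]
  have hconjH : ∀ g ∈ H, τ * g * τ⁻¹ ∈ H := by
    intro g hg
    have h1 : H ≤ H.comap (MulAut.conj τ).toMonoidHom := by
      conv_lhs => rw [hH]
      rw [closure_le]
      rintro _ ⟨i, rfl⟩
      fin_cases i
      · simpa only [_root_.MulEquiv.toMonoidHom_eq_coe, _root_.Subgroup.coe_comap, _root_.MonoidHom.coe_coe, _root_.Fin.zero_eta, _root_.Fin.isValue, _root_.Matrix.cons_val_zero, _root_.map_one, _root_.one_mul, _root_.inv_one, _root_.mul_one, _root_.Set.mem_preimage, _root_.MulAut.conj_apply, _root_.SetLike.mem_coe] using hx'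
      · show τ * (MulAut.conj ((![1, t] : Fin 2 → K) 1) * x * (MulAut.conj ((![1, t] : Fin 2 → K) 1))⁻¹) * τ⁻¹ ∈ H
        have h2 : MulAut.conj ((![1, t] : Fin 2 → K) 1) = τ := by simp [hτ]
        rw [h2]
        have h3 : τ * (τ * x * τ⁻¹) * τ⁻¹ = x := by
          rw [hτi]
          calc τ * (τ * x * τ) * τ = (τ * τ) * x * (τ * τ) := by group
            _ = x := by rw [hττ, one_mul, mul_one]
        rw [h3]
        exact hx
    exact h1 hg
  -- the inner part
  let N : Subgroup K := H.comap MulAut.conj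
  have hN : Group.IsSolvable N := by
    have hker : Group.IsSolvable ((MulAut.conj : K →* MulAut K).ker) := by
      apply Group.isSolvable_of_comm
      rintro ⟨a, ha⟩ ⟨b, hb⟩
      apply Subtype.ext
      have h1 : MulAut.conj a b = b := by rw [MonoidHom.mem_ker.1 ha]; rfl
      rw [MulAut.conj_apply, mul_inv_eq_iff_eq_mul] at h1
      exact h1
    let f : N →* H := (MulAut.conj.comp N.subtype).codRestrict H fun n => n.2
    have hker' : Group.IsSolvable f.ker := by
      let g : f.ker →* (MulAut.conj : K →* MulAut K).ker :=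
        (N.subtype.comp f.ker.subtype).codRestrict _ fun n => by
          rw [MonoidHom.mem_ker]
          exact congrArg Subtype.val (MonoidHom.mem_ker.1 n.2)
      refine Group.isSolvable_of_isSolvable_injective (f := g) ?_
      intro a b hab
      have h1 := congrArg Subtype.val hab
      exact Subtype.ext (Subtype.ext h1)
    exact Group.isSolvable_of_ker_le_range (f := f.ker.subtype) (g := f) (by rw [range_subtype])
  have hNx : ∀ k ∈ N, x k ∈ N := by
    intro k hk
    have h1 : MulAut.conj (x k) = x * MulAut.conj k * x⁻¹ := by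
      ext y
      simp only [MulAut.mul_apply, _root_.MulAut.conj_apply, _root_.MulAut.inv_apply, _root_.map_mul, _root_.MulEquiv.apply_symm_apply, _root_.map_inv]
    show MulAut.conj (x k) ∈ H
    rw [h1]
    exact mul_mem (mul_mem hx hk) (inv_mem hx)
  have hNt : ∀ k ∈ N, t * k * t⁻¹ ∈ N := by
    intro k hk
    show MulAut.conj (t * k * t⁻¹) ∈ H
    rw [map_mul, map_mul, map_inv]
    exact hconjH _ hk
  have hN1 : N ≠ ⊥ := by
    intro h0
    have h1 : x t * t⁻¹ ∈ N := by
      show MulAut.conj (x t * t⁻¹) ∈ H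
      have h2 : MulAut.conj (x t * t⁻¹) = x * (τ * x * τ⁻¹)⁻¹ := by
        have h1 : MulAut.conj (x t) = x * MulAut.conj t * x⁻¹ := by
          ext y
          simp only [MulAut.mul_apply, _root_.MulAut.conj_apply, _root_.MulAut.inv_apply, _root_.map_mul, _root_.MulEquiv.apply_symm_apply, _root_.map_inv]
        rw [map_mul, map_inv, h1, ← hτ]
        group
      rw [h2]
      exact mul_mem hx (inv_mem hx')
    rw [h0, mem_bot, mul_inv_eq_one] at h1
    exact hxt h1
  obtain ⟨A, -, hA1, hA2, hA3⟩ := exists_abelian_char N hN hN1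
  exact ⟨A, hA1, hA2, fun a ha => hA3 x.toMonoidHom hNx a ha,
    fun a ha => hA3 (MulAut.conj t).toMonoidHom hNt a ha⟩

end Solv

section Fin

variable {F : Type*} [Field F] [Finite F]

/-- **`PS 2` fails for field automorphisms of prime order at least five.** -/
theorem not_ps {σ : F ≃+* F} {p : ℕ} (hpp : p.Prime) (hp : 5 ≤ p) (hσ : σ ^ p = 1) (h1 : σ ≠ 1) :
    ¬ PS 2 (lift (fld σ) : MulAut (Matrix.ProjectiveSpecialLinearGroup (Fin 2) F)) := by
  intro hPS
  obtain ⟨b, hb⟩ : ∃ b, σ b ≠ b := by
    by_contra hcon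
    push Not at hcon
    exact h1 (RingEquiv.ext hcon)
  have hne : lift (fld σ) (pr (Tm b)) ≠ pr (Tm b) := by
    rw [lift_pr, fld_Tm]
    exact fun h => hb (pr_Tm_inj h)
  obtain ⟨A, hA1, hA, hAσ, hAt⟩ := exists_abelian hPS (pr_Tm_sq b) hne
  exact no_abelian hpp hp hσ hb hA hA1 hAσ hAt

end Fin

end Cfsg.Agent.H109.EndPsl

private theorem dce_2cb84c8a9a92 : _root_.True := by
  try have : _root_.True := by simp only [_root_.Cfsg.Agent.H109.EndPsl.tm.eq_1]
  exact _root_.True.intro
end

-- part: H109/EndPsl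
section
prune_inst 0x301001000422000000000000020000003000000000000000400000000800000000000000000000000800208000000000000000000000000000000000000400000000000000000000000000000000000000000000000000000000000000000000000000000
set_option linter.all false
open scoped Cfsg.Agent.FastGrp

/-!
# The row `PSL_2(q)` of S3829 (helper109, task 305 of helper459)

`endAt_psl2` : a radical automorphism `x` of prime order `p ≥ 5` of `PSL_2(q)` with `PS 2 x` is inner and the Sylow
`p`-subgroups are cyclic.
-/

set_option autoImplicit false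
set_option linter.unusedSectionVars false

namespace Cfsg.Agent.H109.EndPsl

open Subgroup Cfsg Matrix
open Cfsg.Agent.H459.Iface Cfsg.Agent.H459.Rad
open Cfsg.Agent.ClassicalGeometry.AutPSL.Root Cfsg.Agent.ClassicalGeometry.AutPSL.Auto
  Cfsg.Agent.ClassicalGeometry.AutPSL.Main Cfsg.Agent.BpLin

local notation "S2" => Matrix.SpecialLinearGroup (Fin 2)
local notation "P2" => Matrix.ProjectiveSpecialLinearGroup (Fin 2)

section Sylow

variable {F : Type*} [Field F] [Finite F]

theorem card_sl2 : Nat.card (S2 F) = Nat.card F * (Nat.card F ^ 2 - 1) := by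
  have := Fintype.ofFinite F
  have h := Cfsg.Agent.S0242.result (F := F) rfl 2 (by norm_num)
  rw [Fin.prod_univ_two] at h
  simp only [Fin.val_zero, Fin.val_one, pow_zero, pow_one, ← Nat.card_eq_fintype_card] at h
  have hq : 1 < Nat.card F := Finite.one_lt_card
  have h2 : (Nat.card F - 1) * Nat.card (S2 F) = (Nat.card F - 1) * (Nat.card F * (Nat.card F ^ 2 - 1)) := by
    rw [h]
    have : Nat.card F ^ 2 - Nat.card F = (Nat.card F - 1) * Nat.card F := by
      rw [Nat.sub_mul, one_mul, sq]
    rw [this]; ring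
  exact Nat.eq_of_mul_eq_mul_left (by omega) h2

/-- diagonal elements -/
def dge (u : Fˣ) : S2 F := ⟨!![(u : F), 0; 0, ((u⁻¹ : Fˣ) : F)], by
    rw [Matrix.det_fin_two_of, mul_zero, sub_zero, ← Units.val_mul, mul_inv_cancel, Units.val_one]⟩

theorem coe_dge (u : Fˣ) : (dge u : Matrix (Fin 2) (Fin 2) F) = !![(u : F), 0; 0, ((u⁻¹ : Fˣ) : F)] := rfl

/-- the diagonal torus -/
def dgh : Fˣ →* S2 F where
  toFun u := dge u
  map_one' := by
    apply Subtype.ext
    rw [coe_dge]
    ext i j
    (revert i j; simp only [_root_.Fin.forall_fin_succ, _root_.Units.val_one, _root_.inv_one, _root_.Matrix.of_apply, _root_.Matrix.cons_val', _root_.Matrix.cons_val_fin_one, _root_.Matrix.SpecialLinearGroup.coe_one, Fin.isValue, _root_.Matrix.cons_val_zero, _root_.Matrix.cons_val_succ, _root_.IsEmpty.forall_iff, _root_.and_true, _root_.Matrix.one_apply_eq, Nat.reduceAdd, _root_.Fin.succ_zero_eq_one, _root_.ne_eq, _root_.zero_ne_one, _root_.not_false_eq_true, _root_.Matrix.one_apply_ne, _root_.and_self, _root_.Fin.succ_ne_zero,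 _root_.true_and])
  map_mul' u v := by
    apply Subtype.ext
    rw [Matrix.SpecialLinearGroup.coe_mul, coe_dge, coe_dge, coe_dge]
    ext i j
    (revert i j; simp only [Matrix.mul_apply, Fin.sum_univ_two, mul_comm, _root_.Fin.forall_fin_succ, _root_.Units.val_mul, _root_.mul_inv_rev, _root_.Units.val_inv_eq_inv_val, _root_.Matrix.of_apply, _root_.Matrix.cons_val', _root_.Matrix.cons_val_fin_one, Fin.isValue, _root_.Matrix.cons_val_zero, _root_.Matrix.cons_val_one, _root_.MulZeroClass.zero_mul, _root_.add_zero, _root_.Matrix.cons_val_succ, _root_.zero_add, _root_.forall_const, _root_.MulZeroClass.mul_zero, _root_.and_self, _root_.implies_true])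

theorem dgh_injective : Function.Injective (dgh : Fˣ →* S2 F) := by
  intro u v h
  have h1 := congrArg (fun g : S2 F => (g : Matrix (Fin 2) (Fin 2) F) 0 0) h
  exact Units.ext h1

/-- **Sylow `p`-subgroups in the nondefining characteristic.** -/
theorem isCyclic_sylow {p : ℕ} [hpf : Fact p.Prime] (hp2 : p ≠ 2) (hpq : ¬ p ∣ Nat.card F) (P : Sylow p (P2 F)) :
    IsCyclic (P : Subgroup (P2 F)) := by
  have := Fintype.ofFinite F
  have hpp : p.Prime := hpf.out
  have hq : 1 < Nat.card F := Finite.one_lt_card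
  by_cases h1 : p ∣ Nat.card F - 1
  · let D : Subgroup (S2 F) := dgh.range
    have hDc : IsCyclic D := isCyclic_of_surjective dgh.rangeRestrict dgh.rangeRestrict_surjective
    have hDcard : Nat.card D = Nat.card F - 1 := by
      rw [← Nat.card_congr (MonoidHom.ofInjective (dgh_injective (F := F))).toEquiv, Nat.card_units]
    have hidx : D.index = Nat.card F * (Nat.card F + 1) := by
      have h2 := D.card_mul_index
      rw [card_sl2, hDcard] at h2
      obtain ⟨k, hk⟩ : ∃ k, Nat.card F = k + 2 := ⟨Nat.card F - 2, by omega⟩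
      rw [hk] at h2 ⊢
      have h3 : (k + 2) ^ 2 - 1 = (k + 1) * (k + 3) := by
        rw [Nat.sub_eq_iff_eq_add (by nlinarith only [_root_.Nat.cast_nonneg (α := ℤ) (k)])]; ring
      rw [h3] at h2
      have h4 : (k + 1) * D.index = (k + 1) * ((k + 2) * (k + 3)) := by
        have e : k + 2 - 1 = k + 1 := by omega
        rw [e] at h2
        rw [h2]; ring
      exact Nat.eq_of_mul_eq_mul_left (by omega) h4
    have hTc : IsCyclic (D.map (pr : S2 F →* P2 F)) :=
      isCyclic_of_surjective ((pr : S2 F →* P2 F).subgroupMap D) ((pr : S2 F →* P2 F).subgroupMap_surjective D)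
    refine Cfsg.Agent.Lib.PSL2Mult.isCyclic_sylow (D.map (pr : S2 F →* P2 F)) ?_ P
    intro h2
    have h3 : (D.map (pr : S2 F →* P2 F)).index ∣ D.index := index_map_dvd D pr_surjective
    have h4 := h2.trans h3
    rw [hidx] at h4
    rcases hpp.dvd_mul.1 h4 with h5 | h5
    · exact hpq h5
    · have h6 : p ∣ (Nat.card F + 1) - (Nat.card F - 1) := Nat.dvd_sub h5 h1
      have h7 : (Nat.card F + 1) - (Nat.card F - 1) = 2 := by omega
      rw [h7] at h6
      exact hp2 ((Nat.prime_dvd_prime_iff_eq hpp Nat.prime_two).1 h6)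
  · refine Cfsg.Agent.H999.RowPSL.cyclic_sylow (F := F) (n := 2) (by norm_num) ?_ ?_ P
    · rwa [← Nat.card_eq_fintype_card]
    · intro i hi hi2
      have : i = 1 := by omega
      rw [this, pow_one, ← Nat.card_eq_fintype_card]
      exact h1

/-- **Sylow `p`-subgroups of `PSL_2(p)`.** -/
theorem isCyclic_sylow_self {p : ℕ} [hpf : Fact p.Prime] (hpq : Nat.card F = p) (P : Sylow p (P2 F)) :
    IsCyclic (P : Subgroup (P2 F)) := by
  have hpp : p.Prime := hpf.out
  obtain ⟨k, hk⟩ := IsPGroup.iff_card.mp P.isPGroup'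
  have h1 : Nat.card (P : Subgroup (P2 F)) ∣ Nat.card F * (Nat.card F ^ 2 - 1) := by
    rw [← card_sl2]
    refine (Subgroup.card_subgroup_dvd_card _).trans ?_
    exact Subgroup.card_quotient_dvd_card _
  rw [hk, hpq] at h1
  rcases Nat.lt_or_ge k 2 with h2 | h2
  · interval_cases k
    · rw [pow_zero] at hk
      have : Subsingleton (P : Subgroup (P2 F)) := (Nat.card_eq_one_iff_unique.1 hk).1
      exact isCyclic_of_subsingleton
    · rw [pow_one] at hk
      exact isCyclic_of_prime_card hk
  · exfalso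
    have h3 : p ^ 2 ∣ p * (p ^ 2 - 1) := (pow_dvd_pow p h2).trans h1
    rw [pow_two, Nat.mul_dvd_mul_iff_left hpp.pos] at h3
    have h4 : p ∣ p * p - (p * p - 1) := Nat.dvd_sub (dvd_mul_right p p) h3
    have h5 : p * p - (p * p - 1) = 1 := by
      have := Nat.mul_pos hpp.pos hpp.pos
      omega
    rw [h5] at h4
    exact hpp.one_lt.ne' (Nat.dvd_one.1 h4)

end Sylow

section Unip

variable {F : Type*} [Field F] [Finite F]

/-- upper unitriangular -/
def um {R : Type*} [CommRing R] (c : R) : S2 R := ⟨!![1, c; 0, 1], by rw [Matrix.det_fin_two_of]; ring⟩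

/-- lower unitriangular -/
def lm {R : Type*} [CommRing R] (c : R) : S2 R := ⟨!![1, 0; c, 1], by rw [Matrix.det_fin_two_of]; ring⟩

theorem coe_um {R : Type*} [CommRing R] (c : R) : (um c : Matrix (Fin 2) (Fin 2) R) = !![1, c; 0, 1] := rfl

theorem coe_lm {R : Type*} [CommRing R] (c : R) : (lm c : Matrix (Fin 2) (Fin 2) R) = !![1, 0; c, 1] := rfl

theorem coe_map {R S : Type*} [CommRing R] [CommRing S] (f : R →+* S) (g : S2 R) (i j : Fin 2) :
    (Matrix.SpecialLinearGroup.map f g : Matrix (Fin 2) (Fin 2) S) i j = f ((g : Matrix (Fin 2) (Fin 2) R) i j) := rfl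

theorem um_unip_false {p : ℕ} [hpf : Fact p.Prime] [CharP F p] (hp : 5 ≤ p) (hq : Nat.card F ≠ p)
    (hR : RC (MulAut.conj (pr (um 1)) : MulAut (P2 F))) : False := by
  let ι : ZMod p →+* F := ZMod.castHom (dvd_refl p) F
  let φ : S2 (ZMod p) →* P2 F := (pr : S2 F →* P2 F).comp (Matrix.SpecialLinearGroup.map ι)
  have hφ : ∀ g, φ g = pr (Matrix.SpecialLinearGroup.map ι g) := fun _ => rfl
  have humφ : ∀ c : ZMod p, φ (um c) = pr (um (ι c)) := by
    intro c
    rw [hφ]
    congr 1
    apply Subtype.ext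
    ext i j
    rw [coe_map, coe_um, coe_um]
    (revert i j; simp only [_root_.Fin.forall_fin_succ, _root_.Matrix.of_apply, _root_.Matrix.cons_val', _root_.Matrix.cons_val_fin_one, Fin.isValue, _root_.Matrix.cons_val_zero, _root_.Matrix.cons_val_succ, _root_.forall_const, _root_.map_one, _root_.and_self, _root_.map_zero, _root_.implies_true])
  have hlmφ : ∀ c : ZMod p, φ (lm c) = pr (lm (ι c)) := by
    intro c
    rw [hφ]
    congr 1
    apply Subtype.ext
    ext i j
    rw [coe_map, coe_lm, coe_lm]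
    (revert i j; simp only [_root_.Fin.forall_fin_succ, _root_.Matrix.of_apply, _root_.Matrix.cons_val', _root_.Matrix.cons_val_fin_one, Fin.isValue, _root_.Matrix.cons_val_zero, _root_.Matrix.cons_val_succ, _root_.forall_const, _root_.map_one, _root_.map_zero, _root_.and_self, _root_.implies_true])
  let M : Subgroup (P2 F) := φ.range
  have hum : pr (um (1 : F)) ∈ M := ⟨um 1, by rw [humφ, map_one]⟩
  have hlm : pr (lm (1 : F)) ∈ M := ⟨lm 1, by rw [hlmφ, map_one]⟩
  -- the two elements do not commute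
  have hne : pr (um (1 : F)) * pr (lm 1) ≠ pr (lm 1) * pr (um 1) := by
    rw [← map_mul, ← map_mul]
    intro h
    obtain ⟨c, hc⟩ := exists_smul_of_pr_eq h
    have h1 := congrFun (congrFun hc 0) 1
    have h2 := congrFun (congrFun hc 0) 0
    rw [Matrix.SpecialLinearGroup.coe_mul, Matrix.SpecialLinearGroup.coe_mul, coe_um, coe_lm] at h1 h2
    simp [Matrix.mul_apply, Fin.sum_univ_two] at h1 h2
    rw [← h1] at h2
    have h3 : (1 : F) = 0 := by linear_combination -h2
    exact one_ne_zero h3
  have hM : M ≠ ⊤ := by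
    intro h
    apply hq
    have hsurj : Function.Surjective ι := by
      intro c
      have h1 : pr (um c) ∈ M := by rw [h]; exact mem_top _
      obtain ⟨m, hm⟩ := h1
      rw [hφ] at hm
      obtain ⟨k, hk⟩ := exists_smul_of_pr_eq hm
      have h1 := congrFun (congrFun hk 0) 1
      have h2 := congrFun (congrFun hk 0) 0
      rw [Matrix.smul_apply, coe_map, coe_um] at h1 h2
      simp only [Matrix.of_apply, Matrix.cons_val', Matrix.cons_val_zero, Matrix.cons_val_one,
        Matrix.cons_val_fin_one, smul_eq_mul] at h1 h2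
      have h3 : ι ((m : Matrix (Fin 2) (Fin 2) (ZMod p)) 0 0) ≠ 0 := by
        intro h0
        rw [h0, mul_zero] at h2
        exact one_ne_zero h2
      refine ⟨(m : Matrix (Fin 2) (Fin 2) (ZMod p)) 0 1 / (m : Matrix (Fin 2) (Fin 2) (ZMod p)) 0 0, ?_⟩
      rw [map_div₀, div_eq_iff h3]
      rw [h1]
      linear_combination (ι ((m : Matrix (Fin 2) (Fin 2) (ZMod p)) 0 1)) * h2
    have hbij : Function.Bijective ι := ⟨ι.injective, hsurj⟩
    rw [← Nat.card_congr (Equiv.ofBijective ι hbij), Nat.card_zmod]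
  have hinv : ∀ m ∈ M, MulAut.conj (pr (um (1 : F))) m ∈ M := by
    intro m hm
    rw [MulAut.conj_apply]
    exact mul_mem (mul_mem hum hm) (inv_mem hum)
  have hnt : Nontrivial M := by
    refine ⟨⟨⟨_, hum⟩, 1, fun h => hne ?_⟩⟩
    have h1 : pr (um (1 : F)) = 1 := congrArg Subtype.val h
    rw [h1, one_mul, mul_one]
  have hquasi : IsQuasisimple M :=
    Cfsg.Agent.SignalizersComponents.QuasisimpleQuotient.isQuasisimple_of_surjective φ.rangeRestrict
      φ.rangeRestrict_surjective
      (Cfsg.Agent.SignalizersComponents.SLQuasisimple.isQuasisimple_two (by rw [Nat.card_zmod]; omega))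
  have h1 := hR.eq_of_quasisimple hM hinv hquasi hlm
  rw [MulAut.conj_apply, mul_inv_eq_iff_eq_mul] at h1
  exact hne h1

/-- unipotent elements are conjugate to `um 1` under `GL_2` -/
theorem exists_conj_um {n : S2 F} (hn1 : n ≠ 1) {p : ℕ} [hpf : Fact p.Prime] [CharP F p] (hn : n ^ p = 1) :
    ∃ g : GL (Fin 2) F, (n : Matrix (Fin 2) (Fin 2) F) * g = g * (um 1 : S2 F) := by
  set N : Matrix (Fin 2) (Fin 2) F := (n : Matrix (Fin 2) (Fin 2) F) - 1 with hN
  have hnN : (n : Matrix (Fin 2) (Fin 2) F) = 1 + N := by rw [hN]; abel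
  have hN0 : N ≠ 0 := by
    intro h
    rw [h, add_zero] at hnN
    exact hn1 (Subtype.ext hnN)
  have hNp : N ^ p = 0 := by
    have hch : CharP (Matrix (Fin 2) (Fin 2) F) p := Matrix.charP p
    rw [hN, sub_pow_char_of_commute (p := p) (Commute.one_right _), one_pow]
    have h1 := congrArg (fun g : S2 F => (g : Matrix (Fin 2) (Fin 2) F)) hn
    simp only [Matrix.SpecialLinearGroup.coe_pow, Matrix.SpecialLinearGroup.coe_one] at h1
    rw [h1, sub_self]
  have hdet : N.det = 0 := by
    have h1 : N.det ^ p = 0 := by rw [← Matrix.det_pow, hNp, Matrix.det_zero]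
    exact pow_eq_zero_iff (hpf.out.ne_zero) |>.1 h1
  have hsq : N * N = N.trace • N := by
    rw [Matrix.det_fin_two] at hdet
    ext i j
    fin_cases i <;> fin_cases j <;>
      simp only [Matrix.mul_apply, Fin.sum_univ_two, Matrix.trace_fin_two, Matrix.smul_apply, smul_eq_mul, Fin.zero_eta,
        Fin.mk_one]
    · linear_combination -hdet
    · ring
    · ring
    · linear_combination -hdet
  have htr : N.trace = 0 := by
    have h1 : ∀ k : ℕ, N ^ (k + 1) = N.trace ^ k • N := by
      intro k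
      induction k with
      | zero => simp
      | succ k ih => rw [pow_succ, ih, Matrix.smul_mul, hsq, smul_smul, pow_succ]
    obtain ⟨k, hk⟩ : ∃ k, p = k + 1 := ⟨p - 1, by have := hpf.out.one_lt; omega⟩
    rw [hk, h1] at hNp
    rcases smul_eq_zero.1 hNp with h2 | h2
    · by_contra h3
      exact absurd h2 (pow_ne_zero _ h3)
    · exact absurd h2 hN0
  rw [Matrix.trace_fin_two] at htr
  rw [Matrix.det_fin_two] at hdet
  have hd : N 1 1 = -N 0 0 := by linear_combination htr
  rw [hd] at hdet
  by_cases hc : N 1 0 = 0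
  · rw [hc, mul_zero, sub_zero] at hdet
    have ha : N 0 0 = 0 := by
      have : N 0 0 * N 0 0 = 0 := by linear_combination -hdet
      exact mul_self_eq_zero.1 this
    have hb : N 0 1 ≠ 0 := by
      intro hb
      apply hN0
      ext i j
      fin_cases i <;> fin_cases j
      · exact ha
      · exact hb
      · exact hc
      · show N 1 1 = 0
        rw [hd, ha, neg_zero]
    let g : Matrix (Fin 2) (Fin 2) F := !![N 0 1, 0; 0, 1]
    have hg : g.det ≠ 0 := by
      rw [Matrix.det_fin_two_of]; simpa using hb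
    refine ⟨Matrix.GeneralLinearGroup.mkOfDetNeZero g hg, ?_⟩
    show (n : Matrix (Fin 2) (Fin 2) F) * g = g * _
    rw [hnN, coe_um]
    ext i j
    fin_cases i <;> fin_cases j <;>
      simp [g, Matrix.mul_apply, Fin.sum_univ_two, ha, hc, hd]
  · let g : Matrix (Fin 2) (Fin 2) F := !![N 0 0, 1; N 1 0, 0]
    have hg : g.det ≠ 0 := by
      rw [Matrix.det_fin_two_of]; simpa using hc
    refine ⟨Matrix.GeneralLinearGroup.mkOfDetNeZero g hg, ?_⟩
    show (n : Matrix (Fin 2) (Fin 2) F) * g = g * _
    rw [hnN, coe_um]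
    ext i j
    fin_cases i <;> fin_cases j <;>
      simp only [g, Matrix.mul_apply, Fin.sum_univ_two, hd, Matrix.add_apply, Fin.zero_eta, Fin.mk_one, Matrix.of_apply,
        Matrix.cons_val', Matrix.cons_val_zero, Matrix.cons_val_one, Matrix.cons_val_fin_one, Matrix.one_apply_eq,
        ne_eq, one_ne_zero, not_false_eq_true, Matrix.one_apply_ne, zero_ne_one]
    · linear_combination -hdet
    · ring
    · ring
    · ring

/-- **Inner automorphisms of order the characteristic.** -/
theorem unip_false {p : ℕ} [hpf : Fact p.Prime] [CharP F p] (hp : 5 ≤ p) (hq : Nat.card F ≠ p) {s : P2 F}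
    (ho : orderOf (MulAut.conj s : MulAut (P2 F)) = p) (hR : RC (MulAut.conj s : MulAut (P2 F))) : False := by
  -- a lift of order `p` of an element inducing the same automorphism
  obtain ⟨m, hm⟩ := pr_surjective s
  have hcp : MulAut.conj (s ^ p) = (1 : MulAut (P2 F)) := by
    rw [map_pow, ← ho, pow_orderOf_eq_one]
  -- `s ^ p = 1`: the centre is trivial
  have hcen : ∀ z : P2 F, MulAut.conj z = (1 : MulAut (P2 F)) → z = 1 := by
    intro z hz
    by_contra hz1
    obtain ⟨z, rfl⟩ := pr_surjective z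
    have hz' : ∀ g : S2 F, pr z * pr g = pr g * pr z := by
      intro g
      have h1 : MulAut.conj (pr z) (pr g) = pr g := by rw [hz]; rfl
      rwa [MulAut.conj_apply, mul_inv_eq_iff_eq_mul] at h1
    -- `z` commutes with `um 1` and `lm 1` up to sign
    have hns := ns_of_ne hz1
    have h2 : (2 : F) ≠ 0 := by
      intro h
      have h3 : (p : ℕ) ∣ 2 := (CharP.cast_eq_zero_iff F p 2).1 (by exact_mod_cast h)
      have := Nat.le_of_dvd (by norm_num) h3
      omega
    have hcu : z * um 1 = um 1 * z := by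
      rcases comm_or (hz' (um 1)) with h | h
      · exact h
      · exfalso
        have h00 := congrFun (congrFun h 0) 0
        have h10 := congrFun (congrFun h 1) 0
        have h01 := congrFun (congrFun h 0) 1
        have h11 := congrFun (congrFun h 1) 1
        rw [coe_um] at h00 h10 h01 h11
        simp only [Matrix.mul_apply, Fin.sum_univ_two, Matrix.neg_apply, Matrix.of_apply, Matrix.cons_val',
          Matrix.cons_val_zero, Matrix.cons_val_one, Matrix.cons_val_fin_one] at h00 h10 h01 h11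
        have hdet := z.2
        rw [Matrix.det_fin_two] at hdet
        have e10 : (z : Matrix (Fin 2) (Fin 2) F) 1 0 = 0 := by
          apply mul_left_cancel₀ h2
          linear_combination h10
        have e00 : (z : Matrix (Fin 2) (Fin 2) F) 0 0 = 0 := by
          apply mul_left_cancel₀ h2
          linear_combination h00 - e10
        have : (1 : F) = 0 := by
          rw [← hdet]
          show (z : Matrix (Fin 2) (Fin 2) F) 0 0 * (z : Matrix (Fin 2) (Fin 2) F) 1 1 -
            (z : Matrix (Fin 2) (Fin 2) F) 0 1 * (z : Matrix (Fin 2) (Fin 2) F) 1 0 = 0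
          rw [e00, e10]; ring
        exact one_ne_zero this
    have hcl : z * lm 1 = lm 1 * z := by
      rcases comm_or (hz' (lm 1)) with h | h
      · exact h
      · exfalso
        have h00 := congrFun (congrFun h 0) 0
        have h10 := congrFun (congrFun h 1) 0
        have h01 := congrFun (congrFun h 0) 1
        have h11 := congrFun (congrFun h 1) 1
        rw [coe_lm] at h00 h10 h01 h11
        simp only [Matrix.mul_apply, Fin.sum_univ_two, Matrix.neg_apply, Matrix.of_apply, Matrix.cons_val',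
          Matrix.cons_val_zero, Matrix.cons_val_one, Matrix.cons_val_fin_one] at h00 h10 h01 h11
        have hdet := z.2
        rw [Matrix.det_fin_two] at hdet
        have e01 : (z : Matrix (Fin 2) (Fin 2) F) 0 1 = 0 := by
          apply mul_left_cancel₀ h2
          linear_combination h01
        have e11 : (z : Matrix (Fin 2) (Fin 2) F) 1 1 = 0 := by
          apply mul_left_cancel₀ h2
          linear_combination h11 - e01
        have : (1 : F) = 0 := by
          rw [← hdet]
          show (z : Matrix (Fin 2) (Fin 2) F) 0 0 * (z : Matrix (Fin 2) (Fin 2) F) 1 1 -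
            (z : Matrix (Fin 2) (Fin 2) F) 0 1 * (z : Matrix (Fin 2) (Fin 2) F) 1 0 = 0
          rw [e11, e01]; ring
        exact one_ne_zero this
    have h3 := sl_comm_of_comm hz1 hcu hcl
    rw [sl_comm_iff, coe_um, coe_lm] at h3
    have h4 := congrFun (congrFun h3 0) 0
    simp [Matrix.mul_apply, Fin.sum_univ_two] at h4
  have hsp : s ^ p = 1 := hcen _ hcp
  -- the lift
  have hmp : (m ^ p) * (m ^ p) = 1 := by
    have h1 : pr (m ^ p) = 1 := by rw [map_pow, hm, hsp]
    rw [← map_one (pr : S2 F →* _)] at h1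
    obtain ⟨c, hc⟩ := exists_smul_of_pr_eq h1.symm
    have h2 := congrArg Matrix.det hc
    rw [Matrix.det_smul, (m ^ p).2, (1 : S2 F).2, mul_one, Fintype.card_fin] at h2
    apply Subtype.ext
    rw [Matrix.SpecialLinearGroup.coe_mul, hc, Matrix.SpecialLinearGroup.coe_one, Matrix.smul_mul, one_mul, smul_smul,
      ← pow_two, ← h2, one_smul]
  obtain ⟨k, hk⟩ := hpf.out.odd_of_ne_two (by omega)
  have hn : (m ^ (p + 1)) ^ p = 1 := by
    rw [← pow_mul, mul_comm, pow_mul, hk, show 2 * k + 1 + 1 = 2 * (k + 1) by ring, pow_mul, pow_two, ← hk, hmp, one_pow]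
  have hprn : pr (m ^ (p + 1)) = s := by rw [map_pow, hm, pow_succ, hsp, one_mul]
  have hn1 : m ^ (p + 1) ≠ 1 := by
    intro h
    rw [h, map_one] at hprn
    rw [← hprn, map_one, orderOf_one] at ho
    omega
  obtain ⟨g, hg⟩ := exists_conj_um hn1 hn
  have hcj : cj g⁻¹ (m ^ (p + 1)) = um 1 := by
    apply Subtype.ext
    rw [coe_cj, inv_inv, mul_assoc, hg, ← mul_assoc, ← Units.val_mul, inv_mul_cancel, Units.val_one, one_mul]
  have hR' := hR.tr (lift (cj g⁻¹))
  have he : Cfsg.Agent.H459.Rad.tr (lift (cj g⁻¹)) (MulAut.conj s) = MulAut.conj (pr (um (1 : F))) := by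
    rw [← hcj, ← lift_pr, hprn]
    ext y
    rw [tr_apply, MulAut.conj_apply, MulAut.conj_apply, map_mul, map_mul, MulEquiv.apply_symm_apply]
    congr 1
    exact map_inv (lift (cj g⁻¹)) s
  rw [he] at hR'
  exact um_unip_false hp hq hR'

end Unip

section Main

variable {F : Type*} [Field F] [Finite F]

/-- **The row, explicit form.** -/
theorem endAt {p : ℕ} [hpf : Fact p.Prime] (hp : 5 ≤ p) : EndAt p (P2 F) := by
  intro x hx hR hP
  have := Fintype.ofFinite F
  have hxp : x ^ p = 1 := by rw [← hx]; exact pow_orderOf_eq_one x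
  obtain ⟨A, σ, rfl⟩ := exists_type le_rfl (hpf.out.odd_of_ne_two (by omega)) hxp
  have hxp' := hxp
  rw [← map_pow, pow_type] at hxp'
  have h1 : lift (cj (NA A σ p) * fld (σ ^ p)) = lift (fld (ι := Fin 2) (1 : F ≃+* F)) := by
    rw [hxp', map_one fld, map_one]
  obtain ⟨⟨c, hc⟩, hσ⟩ := injective_aux h1
  have hc' : (NA A σ p : Matrix (Fin 2) (Fin 2) F) = c • 1 := by
    rw [← hc, Matrix.scalar_apply, Matrix.smul_one_eq_diagonal]
  by_cases h2 : σ = 1
  · subst h2
    rw [map_one fld, mul_one] at hx hR hxp hP ⊢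
    obtain ⟨s, hs⟩ := Cfsg.Agent.H999.RowPSL.inner_of_coprime (n := 2) (p := p)
      ((Nat.coprime_primes Nat.prime_two hpf.out).2 (by omega)) hxp
    refine ⟨⟨s, hs⟩, fun P => ?_⟩
    by_cases hpq : p ∣ Nat.card F
    · -- the defining characteristic
      have hch : CharP F p := by
        obtain ⟨r, hr⟩ := CharP.exists F
        have hrp : Fact r.Prime := ⟨CharP.char_is_prime F r⟩
        obtain ⟨n, -, hn⟩ := FiniteField.card F r
        rw [Nat.card_eq_fintype_card, hn] at hpq
        have := (Nat.prime_dvd_prime_iff_eq hpf.out hrp.out).1 (hpf.out.dvd_of_dvd_pow hpq)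
        rwa [this]
      by_cases hpc : Nat.card F = p
      · exact isCyclic_sylow_self hpc P
      · exfalso
        rw [hs] at hx hR
        exact unip_false hp hpc hx hR
    · exact isCyclic_sylow (by omega) hpq P
  · exfalso
    obtain ⟨B, hB⟩ := exists_std hpf.out h2 hσ hc'
    have hP' := hP.tr (lift (cj B))⁻¹
    have he : Cfsg.Agent.H459.Rad.tr (lift (cj B))⁻¹ (lift (cj A * fld σ)) = lift (fld σ) := by
      rw [hB, map_mul, map_mul, map_inv]
      ext y
      rw [tr_apply]
      have h3 : ((lift (cj B))⁻¹ : MulAut (P2 F)).symm y = lift (cj B) y := rfl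
      rw [h3, MulAut.mul_apply, MulAut.mul_apply, MulAut.inv_apply_self, MulAut.inv_apply_self]
    rw [he] at hP'
    exact not_ps hpf.out hp hσ h2 hP'

end Main

/-- **Row `PSL_2(q)`, all primes `p ≥ 5`.** -/
theorem endAt_psl2 {K : Type*} [Group K] [Finite K] [IsSimpleGroup K] {F : Type} [Field F] [Fintype F] {p : ℕ}
    [Fact p.Prime] (e : Nonempty (K ≃* Matrix.ProjectiveSpecialLinearGroup (Fin 2) F)) (hp : 5 ≤ p) :
    Cfsg.Agent.H459.Iface.EndAt p K := by
  obtain ⟨e⟩ := e
  exact EndAt.congr e (endAt hp)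

end Cfsg.Agent.H109.EndPsl
end
end
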